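import Groth.Agent.KoszOrthLib.Affine
import Groth.Agent.KoszScaleLib.Split
import Groth.Agent.KoszLib.Top
import Groth.Agent.DTenLib.PointObj
import Groth.Agent.DerLib.KInjUse

/-!
# Cohomology of Koszul complexes in the derived category
-/

set_option autoImplicit false
set_option linter.all false
set_option backward.isDefEq.respectTransparency false
set_option backward.isDefEq.respectTransparency.types false

universe u

open CategoryTheory CategoryTheory.Limits CategoryTheory.Pretriangulated
open Groth.Agent
open Groth.Agent.KoszOrthLib (kA exists_koszul_triangle)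
open DTenLib.Point (hH sg)

attribute [local instance] HasDerivedCategory.standard

noncomputable section

namespace ExtVanLib

variable {A : Type u} [CommRing A]

theorem smul_homology_kA (l : List A) {a : A} (ha : a ∈ Ideal.span {x | x ∈ l}) (i : ℤ)
    (x : (hH A i).obj (kA l)) : a • x = 0 := by
  obtain ⟨h⟩ := KoszLib.nonempty_homotopy (M := ModuleCat.of A A) l ha
  rw [← KoszScale.koszul_eq] at h
  have h0 : a • 𝟙 (kA l) = 0 := by
    refine Eq.trans ?_ (DerLib.KInjUse.Q_map_zero_of_quotient (f := a • 𝟙 (Koszul.koszul A l))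
      ((HomotopyCategory.eq_of_homotopy _ _ h).trans (Functor.map_zero _ _ _)))
    rw [Functor.map_smul, CategoryTheory.Functor.map_id]
  have h1 := DTenLib.Point.smul_apply a (𝟙 (kA l)) i x
  rw [h0, Functor.map_zero, CategoryTheory.Functor.map_id] at h1
  exact h1.symm

theorem nonempty_top_kA (l : List A) :
    Nonempty ((hH A 0).obj (kA l) ≅ ModuleCat.of A (A ⧸ Ideal.span {x | x ∈ l})) := by
  obtain ⟨e⟩ := KoszLib.nonempty_koszulH_top (ModuleCat.of A A) l
  have hI : Ideal.ofList l • (⊤ : Submodule A A) = Ideal.span {x | x ∈ l} := Ideal.mul_top _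
  refine ⟨(DerivedCategory.homologyFunctorFactors (ModuleCat.{u} A) 0).app _ ≪≫
    (HomologicalComplex.homologyFunctor (ModuleCat.{u} A) (ComplexShape.up ℤ) 0).mapIso
      (eqToIso (KoszScale.koszul_eq l)) ≪≫
    eqToIso (by show _ = (CohIII.koszulCx _ l).homology ((l.length : ℤ) - l.length); rw [sub_self]; rfl) ≪≫
    (e.trans (Submodule.quotEquivOfEq _ _ hI)).toModuleIso⟩

theorem homology_kA : ∀ (l : List A) (i : ℤ), (∀ [IsNoetherianRing A], Module.Finite A ((hH A i).obj (kA l))) ∧
    ((i < -(l.length : ℤ) ∨ 0 < i) → IsZero ((hH A i).obj (kA l)))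
  | [], i => by
    refine ⟨?_, fun hi => DTenLib.Point.isZero_sg (N := ModuleCat.of A A) (show i ≠ 0 by simp at hi; omega)⟩
    intro _
    rcases eq_or_ne i 0 with rfl | hi
    · exact Module.Finite.equiv (DTenLib.Point.sgH (ModuleCat.of A A) 0).toLinearEquiv.symm
    · haveI := ModuleCat.subsingleton_of_isZero (DTenLib.Point.isZero_sg (N := ModuleCat.of A A) hi)
      exact inferInstanceAs (Module.Finite A ((hH A i).obj (sg (ModuleCat.of A A) 0)))
  | f :: l, i => by
    obtain ⟨ι, d, hT⟩ := exists_koszul_triangle f l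
    let T := Triangle.mk (f • 𝟙 (kA l)) ι d
    have hex := DerivedCategory.HomologySequence.exact₃ T hT i (i + 1) rfl
    refine ⟨?_, fun hi => ?_⟩
    · intro _
      rw [ShortComplex.moduleCat_exact_iff_range_eq_ker] at hex
      haveI := (homology_kA l i).1
      haveI := (homology_kA l (i + 1)).1
      haveI : IsNoetherian A ((hH A i).obj T.obj₂) :=
        inferInstanceAs (IsNoetherian A ((hH A i).obj (kA l)))
      haveI : IsNoetherian A ((hH A (i + 1)).obj T.obj₁) :=
        inferInstanceAs (IsNoetherian A ((hH A (i + 1)).obj (kA l)))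
      haveI : IsNoetherian A ((hH A i).obj (kA (f :: l))) := isNoetherian_of_range_eq_ker _ _ hex
      infer_instance
    · simp only [List.length_cons, Nat.cast_add, Nat.cast_one] at hi
      exact hex.isZero_X₂ (((homology_kA l i).2 (by omega)).eq_of_src _ _)
        (((homology_kA l (i + 1)).2 (by omega)).eq_of_tgt _ _)

end ExtVanLib
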