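import Groth.Agent.ExtVanLib.Koszul
import Groth.Agent.DualCxLib.LocGlobal

/-!
# Pointwise finite injective dimension gives eventual vanishing of `Ext` for finite modules
-/

set_option autoImplicit false
set_option linter.all false
set_option backward.isDefEq.respectTransparency false
set_option backward.isDefEq.respectTransparency.types false

universe u

open CategoryTheory CategoryTheory.Limits CategoryTheory.Pretriangulated
open Groth.Agent Groth.Agent.DualCxLib
open Groth.Agent.KoszOrthLib (kA)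
open DTenLib.Point (hH sg)

attribute [local instance] HasDerivedCategory.standard

noncomputable section

namespace ExtVanLib

variable {A : Type u} [CommRing A] [IsNoetherianRing A] (R : Dual.D A)

theorem tor_ext₂ {S : ShortComplex (ModuleCat.{u} A)} (hS : S.ShortExact) {s : Submonoid A} (i : ℤ)
    (h₁ : Tor s (Ext R S.X₁ i)) (h₃ : Tor s (Ext R S.X₃ i)) : Tor s (Ext R S.X₂ i) := fun f => by
  obtain ⟨a, ha, haf⟩ := h₁ (extMap R S.f i f)
  obtain ⟨g, hg⟩ := exists_of_extMap_f_eq_zero hS i (a • f) (by rw [map_smul]; exact haf)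
  obtain ⟨b, hb, hbg⟩ := h₃ g
  exact ⟨b * a, s.mul_mem hb ha, by rw [mul_smul, hg, ← map_smul, hbg, map_zero]⟩

theorem subsingleton_ext_congr {M N : ModuleCat.{u} A} (e : M ≅ N) (i : ℤ) (h : Subsingleton (Ext R N i)) :
    Subsingleton (Ext R M i) :=
  (((DerivedCategory.singleFunctor (ModuleCat.{u} A) 0).mapIso e).homCongr (Iso.refl _)).subsingleton_congr.2 h

theorem tor_ext_congr {M N : ModuleCat.{u} A} (e : M ≅ N) (i : ℤ) {s : Submonoid A} (h : Tor s (Ext R N i)) :
    Tor s (Ext R M i) := by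
  refine h.of_injective (extMap R e.inv i) fun f g hfg => ?_
  have h2 := congrArg ((DerivedCategory.singleFunctor (ModuleCat.{u} A) 0).map e.hom ≫ ·) hfg
  simp only [extMap, pre, Linear.leftComp_apply] at h2
  rwa [← Category.assoc, ← Category.assoc, ← Functor.map_comp, e.hom_inv_id, CategoryTheory.Functor.map_id,
    Category.id_comp, Category.id_comp] at h2

/-- A short exact sequence of modules. -/
theorem shortExact_mk {M₁ M₂ M₃ : Type u} [AddCommGroup M₁] [Module A M₁] [AddCommGroup M₂] [Module A M₂]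
    [AddCommGroup M₃] [Module A M₃] (f : M₁ →ₗ[A] M₂) (g : M₂ →ₗ[A] M₃) (hf : Function.Injective f)
    (hg : Function.Surjective g) (hfg : Function.Exact f g) :
    ∃ (w : ModuleCat.ofHom f ≫ ModuleCat.ofHom g = 0),
      (ShortComplex.mk (ModuleCat.ofHom f) (ModuleCat.ofHom g) w).ShortExact :=
  ⟨ModuleCat.hom_ext (hfg.linearMap_comp_eq_zero),
    { exact := (ShortComplex.moduleCat_exact_iff_range_eq_ker _).2 (hfg.linearMap_ker_eq).symm
      mono_f := (ModuleCat.mono_iff_injective _).2 hf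
      epi_g := (ModuleCat.epi_iff_surjective _).2 hg }⟩

/-- Eventual vanishing. -/
def Bd (M : ModuleCat.{u} A) : Prop := ∃ N : ℤ, ∀ i : ℤ, N < i → Subsingleton (Ext R M i)

/-- Eventual torsion, relative to the module `A ⧸ p`. -/
def Rel (p : Ideal A) (M : ModuleCat.{u} A) : Prop :=
  ∃ N : ℤ, ∀ i : ℤ, N < i → ∀ s : Submonoid A, Tor s (Ext R (ModuleCat.of A (A ⧸ p)) i) → Tor s (Ext R M i)

/-- Devissage below a set of primes. -/
theorem bd_of_primes (M : Type u) [AddCommGroup M] [Module A M] [Module.Finite A M] (Q : Set A)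
    (hQ : ∀ a ∈ Q, ∀ x : M, a • x = 0)
    (h : ∀ q : PrimeSpectrum A, Q ⊆ q.asIdeal → Bd R (ModuleCat.of A (A ⧸ q.asIdeal))) :
    Bd R (ModuleCat.of A M) := by
  revert hQ
  induction ‹Module.Finite A M› using IsNoetherianRing.induction_on_isQuotientEquivQuotientPrime A with
  | subsingleton N =>
    intro _
    haveI : Subsingleton (ModuleCat.of A N) := ‹Subsingleton N›
    exact ⟨0, fun i _ => ⟨fun a b =>
      ((DerivedCategory.singleFunctor (ModuleCat.{u} A) 0).map_isZero
        (ModuleCat.isZero_of_subsingleton _)).eq_of_src a b⟩⟩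
  | quotient N q e =>
    intro hQ
    obtain ⟨n, hn⟩ := h q fun a ha => by
      have h2 : e (a • e.symm (1 : A ⧸ q.asIdeal)) = 0 := by rw [hQ a ha, map_zero]
      rw [map_smul, e.apply_symm_apply] at h2
      exact Ideal.Quotient.eq_zero_iff_mem.1 (by
        rw [← h2, Algebra.smul_def, mul_one]; rfl)
    exact ⟨n, fun i hi => subsingleton_ext_congr R e.toModuleIso i (hn i hi)⟩
  | exact N₁ N₂ N₃ f g hf hg hfg h₁ h₃ =>
    intro hQ
    obtain ⟨w, hS⟩ := shortExact_mk f g hf hg hfg
    obtain ⟨n₁, hn₁⟩ := h₁ fun a ha x => hf (by rw [map_smul, hQ a ha, map_zero])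
    obtain ⟨n₃, hn₃⟩ := h₃ fun a ha x => by
      obtain ⟨y, rfl⟩ := hg x
      rw [← map_smul, hQ a ha, map_zero]
    exact ⟨max n₁ n₃, fun i hi => subsingleton_ext₂ hS i (hn₁ i (by omega)) (hn₃ i (by omega))⟩

theorem rel_of_killed (p : Ideal A) (M : Type u) [AddCommGroup M] [Module A M] [Module.Finite A M]
    (hp : ∀ a ∈ p, ∀ x : M, a • x = 0)
    (IH : ∀ q : PrimeSpectrum A, p < q.asIdeal → Bd R (ModuleCat.of A (A ⧸ q.asIdeal))) :
    Rel R p (ModuleCat.of A M) := by
  revert hp
  induction ‹Module.Finite A M› using IsNoetherianRing.induction_on_isQuotientEquivQuotientPrime A with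
  | subsingleton N =>
    intro _
    haveI : Subsingleton (ModuleCat.of A N) := ‹Subsingleton N›
    refine ⟨0, fun i _ s _ f => ⟨1, s.one_mem, ?_⟩⟩
    exact ((DerivedCategory.singleFunctor (ModuleCat.{u} A) 0).map_isZero
        (ModuleCat.isZero_of_subsingleton _)).eq_of_src _ _
  | quotient N q e =>
    intro hp
    have hle : p ≤ q.asIdeal := fun a ha => by
      have h2 : e (a • e.symm (1 : A ⧸ q.asIdeal)) = 0 := by rw [hp a ha, map_zero]
      rw [map_smul, e.apply_symm_apply] at h2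
      exact Ideal.Quotient.eq_zero_iff_mem.1 (by
        rw [← h2, Algebra.smul_def, mul_one]; rfl)
    rcases hle.eq_or_lt with h | h
    · exact ⟨0, fun i _ s hs => tor_ext_congr R (e.trans (Submodule.quotEquivOfEq _ _ h.symm)).toModuleIso i hs⟩
    · obtain ⟨n, hn⟩ := IH q h
      refine ⟨n, fun i hi s _ f => ⟨1, s.one_mem, ?_⟩⟩
      haveI := subsingleton_ext_congr R e.toModuleIso i (hn i hi)
      exact Subsingleton.elim _ _
  | exact N₁ N₂ N₃ f g hf hg hfg h₁ h₃ =>
    intro hp
    obtain ⟨w, hS⟩ := shortExact_mk f g hf hg hfg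
    obtain ⟨n₁, hn₁⟩ := h₁ fun a ha x => hf (by rw [map_smul, hp a ha, map_zero])
    obtain ⟨n₃, hn₃⟩ := h₃ fun a ha x => by
      obtain ⟨y, rfl⟩ := hg x
      rw [← map_smul, hp a ha, map_zero]
    exact ⟨max n₁ n₃, fun i hi s hs => tor_ext₂ R hS i (hn₁ i (by omega) s hs) (hn₃ i (by omega) s hs)⟩

variable {R} {a b : ℤ} (hX : ∀ i, (i < a ∨ b < i) → IsZero ((hH A i).obj R))
  (hfin : ∀ i, Module.Finite A ((hH A i).obj R))
include hX hfin

/-- The induction step: a prime whose strict over-primes are settled. -/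
theorem bd_step (p : PrimeSpectrum A) (IH : ∀ q : PrimeSpectrum A, p < q → Bd R (ModuleCat.of A (A ⧸ q.asIdeal)))
    (hloc : ∃ B : ℤ, ∀ i, B < i → Tor p.asIdeal.primeCompl (Ext R (ModuleCat.of A (A ⧸ p.asIdeal)) i)) :
    Bd R (ModuleCat.of A (A ⧸ p.asIdeal)) := by
  classical
  obtain ⟨B, hB⟩ := hloc
  haveI hge : R.IsGE a := (DerivedCategory.isGE_iff R a).2 fun i hi => hX i (Or.inl hi)
  obtain ⟨gens, hg⟩ := (IsNoetherian.noetherian p.asIdeal : p.asIdeal.FG)
  let l := gens.toList
  have hspan : Ideal.span {x | x ∈ l} = p.asIdeal := by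
    rw [← hg]; congr 1; ext x; simp [l]
  let K := kA l
  have hM : ∀ j : ℤ, Rel R p.asIdeal ((hH A j).obj K) := fun j =>
    haveI := (homology_kA l j).1
    rel_of_killed R p.asIdeal ((hH A j).obj K)
      (fun c hc x => smul_homology_kA l (hspan.symm ▸ hc) j x) fun q hq => IH q hq
  choose NM hNM using hM
  let r : ℕ := l.length
  let J := Finset.Icc (-(r : ℤ)) 0
  obtain ⟨N₁, hN₁⟩ := Finset.exists_le (J.image NM ∪ {B, b + r + 1})
  have hN1B : B ≤ N₁ := hN₁ B (by simp)
  have hN1b : b + r + 1 ≤ N₁ := hN₁ _ (by simp)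
  have hN1M : ∀ j, -(r : ℤ) ≤ j → j ≤ 0 → NM j ≤ N₁ := fun j h h' =>
    hN₁ _ (Finset.mem_union_left _ (Finset.mem_image_of_mem _ (Finset.mem_Icc.2 ⟨h, h'⟩)))
  let E := fun i => Ext R (ModuleCat.of A (A ⧸ p.asIdeal)) i
  have hkill : ∀ i, N₁ < i → ∃ h ∈ p.asIdeal.primeCompl, ∀ x : E i, h • x = 0 := fun i hi => by
    haveI := isNoetherian_ext hge hfin (ModuleCat.of A (A ⧸ p.asIdeal)) i
    obtain ⟨T, hT⟩ := (IsNoetherian.noetherian (⊤ : Submodule A (E i)) : (⊤ : Submodule A (E i)).FG)
    choose c hc hcx using fun x : E i => hB i (by omega) x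
    refine ⟨∏ x ∈ T, c x, Submonoid.prod_mem _ fun x _ => hc x, fun x => ?_⟩
    have hx : x ∈ Submodule.span A (T : Set (E i)) := hT ▸ Submodule.mem_top
    induction hx using Submodule.span_induction with
    | mem y hy =>
      obtain ⟨d, hd⟩ := Finset.dvd_prod_of_mem c hy
      rw [hd, mul_comm, mul_smul, hcx, smul_zero]
    | zero => rw [smul_zero]
    | add y z _ _ hy hz => rw [smul_add, hy, hz, add_zero]
    | smul t y _ hy => rw [smul_comm, hy, smul_zero]
  choose! hh hhp hh0 using hkill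
  let h : A := ∏ i ∈ Finset.Ioc N₁ (N₁ + r + 2), hh i
  have hhp' : h ∈ p.asIdeal.primeCompl :=
    Submonoid.prod_mem _ fun i hi => hhp i (Finset.mem_Ioc.1 hi).1
  let S := Submonoid.powers h
  have key : ∀ (n : ℕ) (i : ℤ), N₁ < i → i ≤ N₁ + n → Tor S (E i) := by
    intro n
    induction n using Nat.strong_induction_on with
    | _ n ih =>
      intro i hi hin
      by_cases hw : i ≤ N₁ + r + 2
      · intro x
        refine ⟨h, Submonoid.mem_powers h, ?_⟩
        obtain ⟨d, hd⟩ := Finset.dvd_prod_of_mem hh (Finset.mem_Ioc.2 ⟨hi, hw⟩ : i ∈ Finset.Ioc N₁ (N₁ + r + 2))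
        show h • x = 0
        rw [show h = hh i * d from hd, mul_comm, mul_smul, hh0 i hi, smul_zero]
      replace hw : N₁ + r + 2 < i := lt_of_not_ge hw
      obtain ⟨X, Y, hXle, hYge, f, g, d, hT⟩ :=
        DerivedCategory.TStructure.t.exists_triangle K (-1) 0 (by omega)
      haveI : X.IsLE (-1) := ⟨hXle⟩
      haveI : Y.IsGE 0 := ⟨hYge⟩
      let T : Triangle (Dual.D A) := Triangle.mk f g d
      have hX0 : ∀ j, -1 < j → IsZero ((hH A j).obj X) := fun j hj => DerivedCategory.isZero_of_isLE X (-1) j hj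
      have hY0 : ∀ j, j < 0 → IsZero ((hH A j).obj Y) := fun j hj => DerivedCategory.isZero_of_isGE Y 0 j hj
      have hiso : ∀ j, j < 0 → IsIso ((hH A j).map f) := fun j hj => by
        have := (DerivedCategory.HomologySequence.mono_homologyMap_mor₁_iff T hT (j - 1) j (by omega)).mpr
          ((hY0 (j - 1) (by omega)).eq_of_src _ _)
        have := (DerivedCategory.HomologySequence.epi_homologyMap_mor₁_iff T hT j).mpr
          ((hY0 j hj).eq_of_tgt _ _)
        exact isIso_of_mono_of_epi ((hH A j).map T.mor₁)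
      have hgiso : ∀ j, 0 ≤ j → IsIso ((hH A j).map g) := fun j hj => by
        have := (DerivedCategory.HomologySequence.exact₂ T hT j).mono_g ((hX0 j (by omega)).eq_of_src _ _)
        have := (DerivedCategory.HomologySequence.exact₃ T hT j (j + 1) rfl).epi_f
          ((hX0 (j + 1) (by omega)).eq_of_tgt _ _)
        exact isIso_of_mono_of_epi ((hH A j).map T.mor₂)
      haveI : Y.IsLE 0 := (DerivedCategory.isLE_iff Y 0).mpr fun j hj => by
        have := hgiso j hj.le
        exact ((homology_kA l j).2 (Or.inr hj)).of_iso (asIso ((hH A j).map g)).symm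
      obtain ⟨N, ⟨eN⟩⟩ := DerivedCategory.exists_iso_singleFunctor_obj_of_isGE_of_isLE Y 0
      obtain ⟨etop⟩ := nonempty_top_kA l
      haveI := hgiso 0 le_rfl
      let eY : Y ≅ sg (ModuleCat.of A (A ⧸ p.asIdeal)) 0 := eN ≪≫
        (DerivedCategory.singleFunctor (ModuleCat.{u} A) 0).mapIso
          (((hH A 0).mapIso eN ≪≫ (DerivedCategory.singleFunctorCompHomologyFunctorIso (ModuleCat.{u} A) 0).app N).symm ≪≫
            (asIso ((hH A 0).map g)).symm ≪≫ etop ≪≫
            (Submodule.quotEquivOfEq _ _ hspan).toModuleIso)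
      intro φ
      have hK0 : g ≫ eY.hom ≫ φ = 0 := by
        refine KoszOrthLib.orth_of_isZero_homology (M := R) l i (fun j hj hj' => hX j (Or.inr ?_)) _
        have : r = l.length := rfl
        omega
      obtain ⟨ψ, hψ⟩ := Triangle.yoneda_exact₃ T hT (eY.hom ≫ φ) hK0
      let P : Dual.D A → Prop := fun Z => Tor S (Z ⟶ R⟦i⟧)
      have hd : DRingLib.Devissable P :=
        { iso := fun {Z Z' : Dual.D A} (e : Z ≅ Z') (h : P Z) =>
            h.of_injective (precompL e (R⟦i⟧)).symm.toLinearMap (precompL e (R⟦i⟧)).symm.injective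
          zero := fun {Z : Dual.D A} (h : IsZero Z) => by
            haveI : Subsingleton (Z ⟶ R⟦i⟧) := ⟨fun f g => h.eq_of_src f g⟩
            exact tor_of_subsingleton
          ext := fun T hT (h1 : P T.obj₁) (h3 : P T.obj₃) f => by
            obtain ⟨s, hs, hsf⟩ := h1 (T.mor₁ ≫ f)
            obtain ⟨w, hw⟩ := Triangle.yoneda_exact₂ _ hT (s • f) (by rw [Linear.comp_smul]; exact hsf)
            obtain ⟨t, ht, htw⟩ := h3 w
            exact ⟨t * s, S.mul_mem ht hs, by rw [mul_smul, hw, ← Linear.comp_smul, htw, comp_zero]⟩ }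
      have hXsh : P (X⟦(1 : ℤ)⟧) := by
        refine DRingLib.Devissable.of_homology hd (-(r : ℤ) - 1) r _ (fun j hj => ?_) (fun j => ?_)
        · refine IsZero.of_iso ?_ (((hH A 0).shiftIso 1 j (1 + j) rfl).app X)
          by_cases hj1 : -1 < 1 + j
          · exact hX0 _ hj1
          · haveI := hiso (1 + j) (by omega)
            exact ((homology_kA l (1 + j)).2 (Or.inl (by omega))).of_iso (asIso ((hH A (1 + j)).map f))
        · have e1 : (hH A j).obj (X⟦(1 : ℤ)⟧) ≅ (hH A (1 + j)).obj X :=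
            ((hH A 0).shiftIso 1 j (1 + j) rfl).app X
          by_cases hj : -(r : ℤ) ≤ 1 + j ∧ 1 + j < 0
          · haveI := hiso (1 + j) hj.2
            let e2 := e1 ≪≫ asIso ((hH A (1 + j)).map f)
            refine hd.iso ((DerivedCategory.singleFunctor (ModuleCat.{u} A) j).mapIso e2.symm) ?_
            let M := (hH A (1 + j)).obj K
            let s : (sg M 0)⟦-j⟧ ≅ sg M j := DTenLib.Point.shiftSg _ 0 (-j) ≪≫ eqToIso (by simp)
            let e := ((precompL s.symm (R⟦i⟧)).trans (shiftL _ (R⟦i⟧) j)).trans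
              (postcompL _ (shift₂ R i j (i + j) rfl))
            refine (hNM (1 + j) (i + j) ?_ S (ih (i + j - N₁).toNat ?_ (i + j) ?_ ?_)).of_injective
              e.toLinearMap e.injective
            · have := hN1M (1 + j) hj.1 (by omega)
              omega
            all_goals omega
          · refine hd.zero ((DerivedCategory.singleFunctor (ModuleCat.{u} A) j).map_isZero (IsZero.of_iso ?_ e1))
            by_cases hj1 : -1 < 1 + j
            · exact hX0 _ hj1
            · haveI := hiso (1 + j) (by omega)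
              exact ((homology_kA l (1 + j)).2 (Or.inl (by omega))).of_iso (asIso ((hH A (1 + j)).map f))
      obtain ⟨s, hs, hsψ⟩ := hXsh ψ
      refine ⟨s, hs, (cancel_epi eY.hom).1 ?_⟩
      rw [Linear.comp_smul, hψ, ← Linear.comp_smul]
      exact (congrArg (fun z => d ≫ z) hsψ).trans (comp_zero.trans comp_zero.symm)
  obtain ⟨N₂, hN₂⟩ := bd_of_primes R (A ⧸ (p.asIdeal ⊔ Ideal.span {h})) ((p.asIdeal ⊔ Ideal.span {h} : Ideal A) : Set A)
    (fun c hc x => by
      obtain ⟨y, rfl⟩ := Ideal.Quotient.mk_surjective x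
      rw [Algebra.smul_def, Ideal.Quotient.algebraMap_eq, ← map_mul, Ideal.Quotient.eq_zero_iff_mem]
      exact Ideal.mul_mem_right _ _ hc)
    (fun q hq => IH q (show p.asIdeal < q.asIdeal from
      lt_of_le_not_ge (fun c hc => hq (Submodule.mem_sup_left hc)) fun hle =>
        hhp' (hle (hq (Submodule.mem_sup_right (Ideal.mem_span_singleton_self h))))))
  refine ⟨max N₁ N₂, fun i hi => subsingleton_of_forall_eq 0 fun x => ?_⟩
  let P₀ := A ⧸ p.asIdeal
  let m : P₀ →ₗ[A] P₀ := h • LinearMap.id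
  let q : P₀ →ₗ[A] A ⧸ (p.asIdeal ⊔ Ideal.span {h}) := Submodule.factor le_sup_left
  have hinj : Function.Injective m := (injective_iff_map_eq_zero _).2 fun y hy => by
    obtain ⟨y, rfl⟩ := Ideal.Quotient.mk_surjective y
    refine Ideal.Quotient.eq_zero_iff_mem.2 ((p.isPrime.mem_or_mem ?_).resolve_left hhp')
    exact Ideal.Quotient.eq_zero_iff_mem.1 (show Ideal.Quotient.mk p.asIdeal (h * y) = 0 from hy)
  have hex : Function.Exact m q := fun y => by
    obtain ⟨y, rfl⟩ := Ideal.Quotient.mk_surjective y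
    constructor
    · intro hy
      obtain ⟨u, hu, v, hv, huv⟩ := Submodule.mem_sup.1 (Ideal.Quotient.eq_zero_iff_mem.1
        (show Ideal.Quotient.mk (p.asIdeal ⊔ Ideal.span {h}) y = 0 from hy))
      obtain ⟨w, rfl⟩ := Ideal.mem_span_singleton'.1 hv
      refine ⟨Ideal.Quotient.mk _ w, ?_⟩
      show Ideal.Quotient.mk p.asIdeal (h * w) = _
      rw [Ideal.Quotient.mk_eq_mk_iff_sub_mem, ← huv]
      have : h * w - (u + w * h) = -u := by ring
      rw [this]
      exact neg_mem hu
    · rintro ⟨z, hz⟩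
      obtain ⟨z, rfl⟩ := Ideal.Quotient.mk_surjective z
      rw [← hz]
      show Ideal.Quotient.mk (p.asIdeal ⊔ Ideal.span {h}) (h * z) = 0
      exact Ideal.Quotient.eq_zero_iff_mem.2
        (Ideal.mul_mem_right _ _ (Submodule.mem_sup_right (Ideal.mem_span_singleton_self h)))
  obtain ⟨w, hS⟩ := shortExact_mk m q hinj (Submodule.factor_surjective _) hex
  have step : ∀ y : E i, h • y = 0 → y = 0 := fun y hy => by
    obtain ⟨g, hg⟩ := exists_of_extMap_f_eq_zero hS i y (by
      show (DerivedCategory.singleFunctor (ModuleCat.{u} A) 0).map (ModuleCat.ofHom m) ≫ y = 0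
      rw [show ModuleCat.ofHom m = h • 𝟙 (ModuleCat.of A P₀) from rfl, Functor.map_smul,
        CategoryTheory.Functor.map_id, Linear.smul_comp, Category.id_comp, hy])
    haveI := hN₂ i (by omega)
    rw [hg, Subsingleton.elim g 0, map_zero]
  obtain ⟨s, ⟨n, rfl⟩, hsx⟩ := key (i - N₁).toNat i (by omega) (by omega) x
  clear hi
  induction n with
  | zero => simpa using hsx
  | succ n ihn =>
    refine ihn (step _ ?_)
    rwa [← mul_smul, ← pow_succ']

theorem bd_prime (hloc : ∀ p : PrimeSpectrum A, ∃ B : ℤ, ∀ i, B < i →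
    Tor p.asIdeal.primeCompl (Ext R (ModuleCat.of A (A ⧸ p.asIdeal)) i)) (p : PrimeSpectrum A) :
    Bd R (ModuleCat.of A (A ⧸ p.asIdeal)) := by
  suffices H : ∀ I : Ideal A, ∀ p : PrimeSpectrum A, p.asIdeal = I → Bd R (ModuleCat.of A (A ⧸ p.asIdeal)) from
    H _ p rfl
  intro I
  induction I using WellFoundedGT.induction with
  | ind I ih =>
    rintro p rfl
    exact bd_step hX hfin p (fun q hq => ih q.asIdeal hq q rfl) (hloc p)

omit hX hfin in
theorem main (hX : ∀ i, (i < a ∨ b < i) → IsZero ((hH A i).obj R))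
    (hfin : ∀ i, Module.Finite A ((hH A i).obj R))
    [∀ p : PrimeSpectrum A, DRing.HasLBaseChange (algebraMap A (Localization.AtPrime p.asIdeal))]
    (hpw : ∀ p : PrimeSpectrum A, DRing.HasFiniteInjDim (Localization.AtPrime p.asIdeal)
      ((DRing.LBaseChange (algebraMap A (Localization.AtPrime p.asIdeal))).obj R))
    (M : Type u) [AddCommGroup M] [Module A M] [Module.Finite A M] :
    ∃ N : ℤ, ∀ i : ℤ, N < i → Subsingleton (Dual.inD A M ⟶ R⟦i⟧) := by
  haveI hge : R.IsGE a := (DerivedCategory.isGE_iff R a).2 fun i hi => hX i (Or.inl hi)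
  refine bd_of_primes R M (∅ : Set A) (fun _ h => absurd h (Set.notMem_empty _)) fun q _ =>
    bd_prime hX hfin (fun p => ?_) q
  obtain ⟨η, hη, hL⟩ := exists_loc_base (S := Localization.AtPrime p.asIdeal) p.asIdeal.primeCompl R
  obtain ⟨a', b', hab⟩ := hpw p
  refine ⟨b', fun i hi => ?_⟩
  obtain ⟨ηN, hN, -⟩ := exists_loc_single (S := Localization.AtPrime p.asIdeal) p.asIdeal.primeCompl
    (ModuleCat.of A (A ⧸ p.asIdeal)) (Iso.refl _)
  refine tor_hom_loc p.asIdeal.primeCompl hN hL hge (c := 0) (k := 1) (fun l hl => ?_) (fun l => ?_) i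
    (ext_of_hasInjAmplitudeIn hab
      ((ModuleCat.extendScalars.{u, u, u} (algebraMap A (Localization.AtPrime p.asIdeal))).obj
        (ModuleCat.of A (A ⧸ p.asIdeal))) i (Or.inr hi))
  · exact DTenLib.Point.isZero_sg (show l ≠ 0 by omega)
  · rcases eq_or_ne l 0 with rfl | hl
    · exact Module.Finite.equiv (DTenLib.Point.sgH (ModuleCat.of A (A ⧸ p.asIdeal)) 0).toLinearEquiv.symm
    · haveI := ModuleCat.subsingleton_of_isZero (DTenLib.Point.isZero_sg (N := ModuleCat.of A (A ⧸ p.asIdeal)) hl)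
      exact inferInstanceAs (Module.Finite A ((hH A l).obj (sg (ModuleCat.of A (A ⧸ p.asIdeal)) 0)))

end ExtVanLib
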